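import Mathlib
import Groth.Agent.Depth.Basic

/-!
# Depth in short exact sequences, for the acyclicity lemma
-/

set_option autoImplicit false
universe u

open CategoryTheory Abelian RingTheory.Sequence IsLocalRing

noncomputable section

namespace Groth.Agent.AcycLib

variable {R : Type u} [CommRing R] [IsLocalRing R] [IsNoetherianRing R]
variable {M : Type u} [AddCommGroup M] [Module R M] [Module.Finite R M]

/-- The test module. -/
abbrev kk (R : Type u) [CommRing R] [IsLocalRing R] : ModuleCat.{u} R :=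
  ModuleCat.of R (Shrink.{u} (R ⧸ maximalIdeal R))

theorem smul_top_ne_top [Nontrivial M] : maximalIdeal R • (⊤ : Submodule R M) ≠ ⊤ := fun h =>
  top_ne_bot (Submodule.eq_bot_of_le_smul_of_le_jacobson_bot (maximalIdeal R) ⊤ Module.Finite.fg_top h.ge
    (IsLocalRing.maximalIdeal_le_jacobson _))

theorem depth_subsingleton [Subsingleton M] : LocCoh.depth R M = ⊤ := by
  rw [LocCoh.depth, LocCoh.idealDepth, if_pos (Subsingleton.elim _ _)]

theorem le_depth_iff_ext (n : ℕ) :
    (n : ℕ∞) ≤ LocCoh.depth R M ↔ ∀ i < n, Subsingleton (Ext (kk R) (ModuleCat.of R M) i) := by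
  rcases subsingleton_or_nontrivial M with hM | hM
  · rw [depth_subsingleton]
    refine ⟨fun _ i _ => subsingleton_of_forall_eq 0 fun e => ?_, fun _ => le_top⟩
    rw [← Ext.comp_mk₀_id e, show 𝟙 (ModuleCat.of R M) = 0 from (ModuleCat.isZero_of_subsingleton _).eq_of_src _ _]
    simp
  · have hI := smul_top_ne_top (R := R) (M := M)
    rw [LocCoh.depth, Depth.le_idealDepth_iff hI]
    constructor
    · rintro ⟨rs, hlen, hmem, hreg⟩
      exact ((ModuleCat.exists_isRegular_tfae (maximalIdeal R) n (ModuleCat.of R M) hI.lt_top).out 3 1 rfl rfl).1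
        ⟨rs, hlen, hmem, Depth.isRegular_of_isWeaklyRegular hI hreg hmem⟩
    · intro h
      obtain ⟨rs, hlen, hmem, hreg⟩ :=
        ((ModuleCat.exists_isRegular_tfae (maximalIdeal R) n (ModuleCat.of R M) hI.lt_top).out 1 3 rfl rfl).1 h
      exact ⟨rs, hlen, hmem, hreg.1⟩

variable {X₁ X₂ X₃ : Type u} [AddCommGroup X₁] [Module R X₁] [Module.Finite R X₁] [AddCommGroup X₂] [Module R X₂]
  [Module.Finite R X₂] [AddCommGroup X₃] [Module R X₃] [Module.Finite R X₃]

theorem le_depth_quot (f : X₁ →ₗ[R] X₂) (g : X₂ →ₗ[R] X₃) (hf : Function.Injective f) (hg : Function.Surjective g)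
    (hfg : Function.Exact f g) (n : ℕ) (h2 : (n : ℕ∞) ≤ LocCoh.depth R X₂)
    (h1 : ((n + 1 : ℕ) : ℕ∞) ≤ LocCoh.depth R X₁) : (n : ℕ∞) ≤ LocCoh.depth R X₃ := by
  rw [le_depth_iff_ext] at h1 h2 ⊢
  intro i hi
  let S : ShortComplex (ModuleCat.{u} R) := ShortComplex.mk (ModuleCat.ofHom f) (ModuleCat.ofHom g)
    (by ext x; exact hfg.apply_apply_eq_zero x)
  have hS : S.ShortExact :=
    { exact := (ShortComplex.ShortExact.moduleCat_exact_iff_function_exact _).mpr hfg
      mono_f := (ModuleCat.mono_iff_injective _).mpr hf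
      epi_g := (ModuleCat.epi_iff_surjective _).mpr hg }
  exact AddCommGrpCat.subsingleton_of_isZero <| ShortComplex.Exact.isZero_of_both_zeros
    (Ext.covariant_sequence_exact₃' (kk R) hS i (i + 1) rfl)
    ((AddCommGrpCat.isZero_of_iff_subsingleton.mpr (h2 i hi)).eq_zero_of_src _)
    ((AddCommGrpCat.isZero_of_iff_subsingleton.mpr (h1 (i + 1) (by omega))).eq_zero_of_tgt _)

theorem one_le_depth_of_injective (f : X₁ →ₗ[R] X₂) (hf : Function.Injective f)
    (h2 : ((1 : ℕ) : ℕ∞) ≤ LocCoh.depth R X₂) : ((1 : ℕ) : ℕ∞) ≤ LocCoh.depth R X₁ := by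
  rw [le_depth_iff_ext] at h2 ⊢
  intro i hi
  obtain rfl : i = 0 := by omega
  haveI := Ext.homEquiv₀.subsingleton_congr.mp (h2 0 (by omega))
  refine Ext.homEquiv₀.subsingleton_congr.mpr (subsingleton_of_forall_eq 0 fun u => ?_)
  haveI : Mono (ModuleCat.ofHom f) := (ModuleCat.mono_iff_injective _).mpr hf
  rw [← cancel_mono (ModuleCat.ofHom f), Limits.zero_comp]
  exact Subsingleton.elim _ _

/-- The local step: a subquotient `Z / B` of a module of depth `≥ 1` with `B` of depth `≥ 2`. -/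
theorem one_le_depth_subquot (h1 : ((1 : ℕ) : ℕ∞) ≤ LocCoh.depth R M) (B Z : Submodule R M) (hBZ : B ≤ Z)
    (hB : ((2 : ℕ) : ℕ∞) ≤ LocCoh.depth R B) :
    ((1 : ℕ) : ℕ∞) ≤ LocCoh.depth R (Z ⧸ B.comap Z.subtype) := by
  refine le_depth_quot (Submodule.inclusion hBZ) (B.comap Z.subtype).mkQ (Submodule.inclusion_injective hBZ)
    (Submodule.mkQ_surjective _) (LinearMap.exact_iff.mpr ?_) 1
    (one_le_depth_of_injective Z.subtype Z.injective_subtype h1) hB
  rw [Submodule.ker_mkQ, Submodule.range_inclusion]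

/-- Going down one step along an exact complex. -/
theorem le_depth_range_of_exact (f : X₁ →ₗ[R] X₂) (g : X₂ →ₗ[R] X₃) (hfg : Function.Exact f g) (n : ℕ)
    (h2 : (n : ℕ∞) ≤ LocCoh.depth R X₂) (h1 : ((n + 1 : ℕ) : ℕ∞) ≤ LocCoh.depth R (LinearMap.range f)) :
    (n : ℕ∞) ≤ LocCoh.depth R (LinearMap.range g) := by
  refine le_depth_quot (LinearMap.range f).subtype g.rangeRestrict (Submodule.injective_subtype _)
    g.surjective_rangeRestrict (LinearMap.exact_iff.mpr ?_) n h2 h1
  rw [LinearMap.ker_rangeRestrict, Submodule.range_subtype, LinearMap.exact_iff.mp hfg]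

theorem exists_regular_of_one_le_depth (h : ((1 : ℕ) : ℕ∞) ≤ LocCoh.depth R M) :
    ∃ r ∈ maximalIdeal R, IsSMulRegular M r := by
  rcases subsingleton_or_nontrivial M with hM | hM
  · exact ⟨0, zero_mem _, fun x y _ => Subsingleton.elim x y⟩
  · rw [LocCoh.depth, Depth.le_idealDepth_iff (smul_top_ne_top (R := R) (M := M))] at h
    obtain ⟨rs, hlen, hmem, hreg⟩ := h
    obtain ⟨r, rfl⟩ := List.length_eq_one_iff.mp hlen
    exact ⟨r, hmem r (by simp), (isWeaklyRegular_singleton_iff M r).mp hreg⟩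

theorem length_le_depth_pi (n : ℕ) (rs : List R) (hmem : ∀ x ∈ rs, x ∈ maximalIdeal R) (hreg : IsWeaklyRegular R rs) :
    (rs.length : ℕ∞) ≤ LocCoh.depth R (Fin n → R) := by
  rcases subsingleton_or_nontrivial (Fin n → R) with hM | hM
  · rw [depth_subsingleton]; exact le_top
  · rw [LocCoh.depth, Depth.le_idealDepth_iff (smul_top_ne_top (R := R) (M := Fin n → R))]
    exact ⟨rs, rfl, hmem, ((TensorProduct.rid R (Fin n → R)).isWeaklyRegular_congr rs).mp hreg.isWeaklyRegular_lTensor⟩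

end Groth.Agent.AcycLib
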